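import Groth.Agent.L22.DimOneAmple.Affine
import Mathlib.AlgebraicGeometry.Morphisms.ClosedImmersion

/-! # Opens of Noetherian affine schemes of dimension at most one are affine -/

set_option autoImplicit false
set_option linter.style.haveILetI false

universe u

open CategoryTheory AlgebraicGeometry TopologicalSpace

namespace Groth.L14.Unob

open Groth.L22.FinAff Groth.L22.PicGlue Groth.L22.DimOneAmple

variable {X : Scheme.{u}} [IsNoetherian X]

theorem closure_subset_biUnion_gen (V : X.Opens) :
    closure (V : Set X) ⊆ ⋃ η ∈ {η : X | IsGen η ∧ η ∈ V}, closure ({η} : Set X) := by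
  refine closure_minimal (fun y hy => ?_)
    ((finite_isGen.subset fun η hη => hη.1).isClosed_biUnion fun _ _ => isClosed_closure)
  obtain ⟨η, hη, hs⟩ := exists_isGen_specializes y
  exact Set.mem_iUnion₂.2 ⟨η, ⟨hη, hs.mem_open V.2 hy⟩, specializes_iff_mem_closure.1 hs⟩

theorem mem_of_dense {U : X.Opens} (hU : Dense (U : Set X)) {η : X} (hη : IsGen η) : η ∈ U := by
  obtain ⟨η', ⟨-, hη'U⟩, hc⟩ := Set.mem_iUnion₂.1 (closure_subset_biUnion_gen U (hU η))
  exact hη η' (specializes_iff_mem_closure.2 hc) ▸ hη'U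

/-- Opens of a Noetherian affine scheme of dimension at most one are affine. -/
theorem isAffineOpen_of_dim_one [IsAffine X] (hdim : topologicalKrullDim X ≤ 1) (V : X.Opens) :
    IsAffineOpen V := by
  let Ω : X.Opens := ⟨(closure (V : Set X))ᶜ, isClosed_closure.isOpen_compl⟩
  have hgen : ∀ η : X, IsGen η → η ∈ V ⊔ Ω := by
    intro η hη
    by_cases h : η ∈ closure (V : Set X)
    · obtain ⟨η', ⟨-, hη'V⟩, hc⟩ := Set.mem_iUnion₂.1 (closure_subset_biUnion_gen V h)
      exact Or.inl (hη η' (specializes_iff_mem_closure.2 hc) ▸ hη'V)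
    · exact Or.inr h
  have hW : IsAffineOpen (V ⊔ Ω) := by
    have := isAffineOpen_inf hdim hgen (isAffineOpen_top X)
    rwa [inf_top_eq] at this
  haveI : IsAffine (V ⊔ Ω).toScheme := hW
  let j : V.toScheme ⟶ (V ⊔ Ω).toScheme := X.homOfLE le_sup_left
  haveI : IsClosedImmersion j := by
    refine IsClosedImmersion.of_isPreimmersion j ?_
    have : Set.range j = (fun z : (V ⊔ Ω).toScheme => ((V ⊔ Ω).ι z : X)) ⁻¹' (closure (V : Set X)) := by
      ext z
      constructor
      · rintro ⟨v, rfl⟩
        refine subset_closure ?_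
        show (V ⊔ Ω).ι (j v) ∈ (V : Set X)
        rw [← Scheme.Hom.comp_apply, Scheme.homOfLE_ι]
        exact v.2
      · intro hz
        obtain h | h := z.2
        · exact ⟨⟨z.1, h⟩, Subtype.ext (by simp [j])⟩
        · exact absurd hz h
    rw [this]
    exact isClosed_closure.preimage (V ⊔ Ω).ι.continuous
  exact isAffine_of_isAffineHom j

end Groth.L14.Unob
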