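import Groth.Agent.L14.DefLift.Scheme
import Groth.Agent.L14.DefLift.LCI
import Groth.Agent.L14.DefLift.DefTransfer
import Groth.Agent.L07.SyntScheme
import Groth.Agent.L07.SyntLCI

/-! # Affine local complete intersections are unobstructed -/

set_option autoImplicit false
set_option linter.style.haveILetI false
set_option backward.isDefEq.respectTransparency false

universe u

open CategoryTheory CategoryTheory.Limits AlgebraicGeometry ArtFun ArtFun.Art

noncomputable section

namespace Groth.L14.Unob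

variable {k : Type u} [Field k]

theorem surjective_map_spec (A₀ : Type u) [CommRing A₀] [Algebra k A₀] (hA : Synt.IsSyntomic k A₀)
    {A' A : Art k k} (μ : A' ⟶ A) (hμ : Function.Surjective μ) :
    Function.Surjective
      ((defFunctor (Spec (CommRingCat.of A₀)) (Spec.map (CommRingCat.ofHom (algebraMap k A₀)))).map μ) := by
  classical
  haveI := hA.2.1
  obtain ⟨n, π, hπ⟩ := Algebra.FiniteType.iff_quotient_mvPolynomial''.mp (inferInstance : Algebra.FiniteType k A₀)
  have hK := Groth.L07.SyntLCI.isKoszulRegularIdeal_ker hA π hπ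
  let e : MvPolynomial (ULift.{u} (Fin n)) k ≃ₐ[k] MvPolynomial (Fin n) k := MvPolynomial.renameEquiv k Equiv.ulift
  let π₀ : MvPolynomial (ULift.{u} (Fin n)) k →ₐ[k] A₀ := π.comp e.toAlgHom
  have hker : RingHom.ker π₀ = (RingHom.ker π.toRingHom).map e.symm.toRingEquiv.toRingHom := by
    ext a
    constructor
    · intro ha
      have h1 : e a ∈ RingHom.ker π.toRingHom := ha
      have := Ideal.mem_map_of_mem e.symm.toRingEquiv.toRingHom h1
      rwa [show e.symm.toRingEquiv.toRingHom (e a) = a from e.symm_apply_apply a] at this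
    · intro ha
      obtain ⟨b, hb, rfl⟩ := (Ideal.mem_map_iff_of_surjective e.symm.toRingEquiv.toRingHom e.symm.surjective).mp ha
      show π (e (e.symm b)) = 0
      rw [e.apply_symm_apply]
      exact hb
  have hK' : LCI.IsKoszulRegularIdeal (RingHom.ker π₀) := by
    rw [hker, Groth.L07.KoszulIdeal.isKoszulRegularIdeal_iff]
    intro p hp hle
    refine Groth.L07.KoszulIdeal.RegAt.map _ (RingHom.Flat.of_bijective e.symm.bijective) p ?_
    exact Groth.L07.KoszulIdeal.isKoszulRegularIdeal_iff.mp hK _ (Ideal.map_le_iff_le_comap.mp hle)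
  obtain ⟨s, hs⟩ := IsNoetherian.noetherian (RingHom.ker π₀)
  let f : ↥s → MvPolynomial (ULift.{u} (Fin n)) k := Subtype.val
  have hf : Ideal.span (Set.range f) = RingHom.ker π₀ := by rw [Subtype.range_coe_subtype]; exact hs
  exact Groth.L14.DefLift.surjective_map π₀ (hπ.comp e.surjective) f hf
    (Groth.L14.DefLift.unobstructed_of_koszulRegular π₀ f hf (by rw [hf]; exact hK')) μ hμ

theorem surjective_map_affine {X : Scheme.{u}} [IsAffine X] (x : X ⟶ specPt k) (hx : CInt.IsCIMorphism x)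
    {A' A : Art k k} (μ : A' ⟶ A) (hμ : Function.Surjective μ) :
    Function.Surjective ((defFunctor X x).map μ) := by
  let φ : k →+* Γ(X, ⊤) := ((Scheme.ΓSpecIso (CommRingCat.of k)).inv ≫ x.appTop).hom
  letI : Algebra k Γ(X, ⊤) := φ.toAlgebra
  have hsy : Synt.IsSyntomic k Γ(X, ⊤) := by
    refine Groth.L07.SyntBase.isSyntomic_of_arrowIso (A := Γ(Spec (CommRingCat.of k), ⊤)) (B := Γ(X, ⊤))
      (A' := CommRingCat.of k) (B' := Γ(X, ⊤)) (a := x.appLE ⊤ ⊤ le_top) (b := CommRingCat.ofHom φ)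
      (Arrow.isoMk (Scheme.ΓSpecIso (CommRingCat.of k)) (Iso.refl _) ?_)
      (Groth.L07.SyntScheme.isSyntomic_appLE hx (isAffineOpen_top _) (isAffineOpen_top X) le_top)
    show (Scheme.ΓSpecIso (CommRingCat.of k)).hom ≫ CommRingCat.ofHom φ = x.appLE ⊤ ⊤ le_top ≫ 𝟙 _
    rw [Category.comp_id, CommRingCat.ofHom_hom, Iso.hom_inv_id_assoc]
    exact (Scheme.Hom.appLE_eq_app (U := ⊤) x).symm
  have he : X.isoSpec.inv ≫ x = Spec.map (CommRingCat.ofHom (algebraMap k Γ(X, ⊤))) := by
    show X.isoSpec.inv ≫ x = Spec.map ((Scheme.ΓSpecIso (CommRingCat.of k)).inv ≫ x.appTop)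
    rw [Spec.map_comp, ← Scheme.isoSpec_inv_naturality x]
    exact congrArg (_ ≫ ·) (Scheme.isoSpec_Spec_inv (CommRingCat.of k))
  have h' : X.isoSpec.hom ≫ Spec.map (CommRingCat.ofHom (algebraMap k Γ(X, ⊤))) = x := by
    rw [← he, Iso.hom_inv_id_assoc]
  intro c
  obtain ⟨d, hd⟩ := surjective_map_spec Γ(X, ⊤) hsy μ hμ (Groth.L14.DefLift.reindexCl X.isoSpec h' A c)
  refine ⟨Groth.L14.DefLift.reindexCl X.isoSpec.symm he A' d, ?_⟩
  refine (Groth.L14.DefLift.reindexCl_natural X.isoSpec.symm he μ d).symm.trans ?_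
  refine (congrArg (Groth.L14.DefLift.reindexCl X.isoSpec.symm he A) hd).trans ?_
  exact Groth.L14.DefLift.reindexCl_leftInverse X.isoSpec h' he A c

end Groth.L14.Unob
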