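import Groth.Agent.L14.Unob.Glue
import Groth.Agent.S2846
import Groth.Agent.L07.SyntMor
import Groth.Agent.L14.Unob.DimOne
import Groth.Agent.L14.Unob.Affine
import Groth.Agent.L14.DefLift.LocTriv.Glue
import Groth.Agent.L14.DefLift.LocTriv.Smooth
import Groth.Agent.L14.DefLift.AutLift

/-! # Curves with isolated lci singularities are unobstructed -/

set_option autoImplicit false
set_option linter.style.haveILetI false
set_option linter.unusedSectionVars false
set_option backward.isDefEq.respectTransparency.types false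
set_option backward.isDefEq.respectTransparency false

universe u

open CategoryTheory CategoryTheory.Limits AlgebraicGeometry TopologicalSpace ArtFun ArtFun.Art

noncomputable section

namespace Groth.L14.Unob

open Groth.L14.LocTriv

variable {k : Type u} [Field k]

/-- Morphisms given by one affine chart. -/
theorem exists_hom_affine {W : Scheme.{u}} [IsAffine W] {w : W ⟶ specPt k} {A A' : Art k k} {μ : A ⟶ A'}
    {ξ : DefSch W w A} {ξ' : DefSch W w A'} (θ : LocHom μ ξ ξ' ⟨⊤, isAffineOpen_top W⟩) :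
    ∃ (g : ξ'.total ⟶ ξ.total) (hg : g ≫ ξ.f = ξ'.f ≫ specMap μ) (hgi : ξ'.i ≫ g = ξ.i),
      LocHom.ofHom hg hgi ⟨⊤, isAffineOpen_top W⟩ = θ := by
  let U : W.affineOpens := ⟨⊤, isAffineOpen_top W⟩
  haveI hiso : ∀ {C : Art k k} (ζ : DefSch W w C), IsIso (chartMap ζ U) := fun {C} ζ => by
    haveI : Surjective (chartMap ζ U) := ⟨fun z => (range_chartMap ζ U).ge (by
      rw [← eq_vOf ζ (U := U.1) (V := ⊤) rfl]
      trivial)⟩
    exact (isIso_iff_isOpenImmersion_and_epi_base _).2 ⟨inferInstance, (TopCat.epi_iff_surjective _).2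
      (chartMap ζ U).surjective⟩
  let g := inv (chartMap ξ' U) ≫ Spec.map (CommRingCat.ofHom θ.hom) ≫ chartMap ξ U
  have hg : g ≫ ξ.f = ξ'.f ≫ specMap μ := by
    rw [← cancel_epi (chartMap ξ' U)]
    simp only [g, Category.assoc, IsIso.hom_inv_id_assoc, chartMap_f]
    rw [← Category.assoc, chartMap_f, ← Spec.map_comp]
    show _ = _ ≫ Spec.map (CommRingCat.ofHom μ.toAlgHom.toRingHom)
    rw [← Spec.map_comp]
    exact congrArg Spec.map (CommRingCat.hom_ext (RingHom.ext θ.hom_rB))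
  have hgi : ξ'.i ≫ g = ξ.i := by
    haveI : IsIso U.2.fromSpec := by
      rw [show U.2.fromSpec = W.isoSpec.inv from IsAffineOpen.fromSpec_top]
      infer_instance
    rw [← cancel_epi U.2.fromSpec, ← Category.assoc, fromSpec_i ξ' U, fromSpec_i ξ U]
    simp only [g, Category.assoc, IsIso.hom_inv_id_assoc]
    rw [← Category.assoc, ← Spec.map_comp]
    exact congrArg (fun h => Spec.map h ≫ chartMap ξ U) (CommRingCat.hom_ext (RingHom.ext θ.red_hom))
  refine ⟨g, hg, hgi, LocHom.ext' fun r => ?_⟩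
  have h := (chartMap_hom hg hgi U).symm
  simp only [g, IsIso.hom_inv_id_assoc] at h
  rw [cancel_mono] at h
  exact ConcreteCategory.congr_hom (Spec.map_injective h) r

variable {X : Scheme.{u}} {x : X ⟶ specPt k} {A B : Art k k} (ξ : DefSch X x A) (μ : B ⟶ A)

theorem surjective_specMap : Surjective (specMap μ) := ⟨fun z => by
  haveI : Subsingleton (spec B) := inferInstanceAs (Subsingleton (PrimeSpectrum B))
  exact ⟨specRes A (IsLocalRing.closedPoint k), Subsingleton.elim _ _⟩⟩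

theorem vOf_sup (V W : X.Opens) : vOf ξ (V ⊔ W) = vOf ξ V ⊔ vOf ξ W :=
  (eq_vOf ξ (by rw [Scheme.Hom.preimage_sup, preimage_vOf, preimage_vOf])).symm

theorem vOf_inf (V W : X.Opens) : vOf ξ (V ⊓ W) = vOf ξ V ⊓ vOf ξ W :=
  (eq_vOf ξ (by rw [Scheme.Hom.preimage_inf, preimage_vOf, preimage_vOf])).symm

theorem vOf_top : vOf ξ ⊤ = ⊤ := (eq_vOf ξ (V := ⊤) rfl).symm

/-- The inclusion of a piece of the closed fibre. -/
def iW (W : X.Opens) : W.toScheme ⟶ (vOf ξ W).toScheme := ξ.i.resLE (vOf ξ W) W (preimage_vOf ξ W).ge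

theorem iW_ι (W : X.Opens) : iW ξ W ≫ (vOf ξ W).ι = W.ι ≫ ξ.i := Scheme.Hom.resLE_comp_ι _ _

theorem isPullback_iW (W : X.Opens) :
    IsPullback (iW ξ W) (W.ι ≫ x) ((vOf ξ W).ι ≫ ξ.f) (specRes A) := by
  refine IsPullback.paste_vert ?_ ξ.isPullback
  refine IsOpenImmersion.isPullback _ _ _ _ (iW_ι ξ W).symm ?_
  rw [Scheme.Opens.opensRange_ι, Scheme.Opens.opensRange_ι, preimage_vOf]

/-- A piece of a deformation. -/
def restr₀ (W : X.Opens) : DefSch W.toScheme (W.ι ≫ x) A where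
  total := (vOf ξ W).toScheme
  f := (vOf ξ W).ι ≫ ξ.f
  flat := by
    haveI := ξ.flat
    infer_instance
  i := iW ξ W
  isPullback := isPullback_iW ξ W

/-- A lift of a piece as a deformation of the piece. -/
def toDef {W : X.Opens} (L : Lift ξ.f (specMap μ) (vOf ξ W)) : DefSch W.toScheme (W.ι ≫ x) B where
  total := L.T
  f := L.f
  flat := L.flat
  i := iW ξ W ≫ L.c
  isPullback := by
    have := (isPullback_iW ξ W).paste_horiz L.isPb
    rwa [specRes_comp] at this

variable {μ} (hμ : Function.Surjective μ)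

include hμ in
theorem exists_lift_affine {W : X.Opens} (hW : IsAffineOpen W) (hlci : CInt.IsCIMorphism (W.ι ≫ x)) :
    Nonempty (Lift ξ.f (specMap μ) (vOf ξ W)) := by
  haveI : IsAffine W.toScheme := hW
  obtain ⟨c, hc⟩ := surjective_map_affine (W.ι ≫ x : W.toScheme ⟶ specPt k) hlci μ hμ (restr₀ ξ W).cl
  obtain ⟨D, rfl⟩ := Quotient.exists_rep c
  obtain ⟨g, hg, hgi⟩ := (Groth.L14.DefLift.map_cl_iff μ D (restr₀ ξ W)).1 hc
  exact ⟨⟨D.total, D.f, D.flat, g, Groth.L14.DefLift.isPullback_over hg hgi⟩⟩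

include hμ in
theorem same_of_smooth {W : X.Opens} (hW : IsAffineOpen W) [Smooth (W.ι ≫ x)] {O : ξ.total.Opens}
    (hO : O = vOf ξ W) (L₁ L₂ : Lift ξ.f (specMap μ) O) : Same L₁ L₂ := by
  subst hO
  haveI : IsAffine W.toScheme := hW
  let D₀ := restr₀ ξ W
  let D₁ := toDef ξ μ L₁
  let D₂ := toDef ξ μ L₂
  let U : W.toScheme.affineOpens := ⟨⊤, isAffineOpen_top _⟩
  let c₁ : LocHom μ D₁ D₀ U := LocHom.ofHom (c := L₁.c) L₁.isPb.w rfl U
  let c₂ : LocHom μ D₂ D₀ U := LocHom.ofHom (c := L₂.c) L₂.isPb.w rfl U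
  obtain ⟨θ, hθ⟩ := exists_lift hμ c₁ c₂ (𝟙 B) (Category.id_comp μ)
  obtain ⟨g, hg, hgi, hgθ⟩ := exists_hom_affine θ
  have hg' : g ≫ D₂.f = D₁.f := by rw [hg, Art.specMap_id, Category.comp_id]
  haveI := Groth.L14.DefLift.isIso_of_hom g hg' hgi
  refine ⟨asIso g, hg', ?_⟩
  show L₁.c ≫ g = L₂.c
  have hc : (L₁.c ≫ g) ≫ D₂.f = D₀.f ≫ specMap μ := by
    rw [Category.assoc, hg']
    exact L₁.isPb.w
  have hci : D₀.i ≫ L₁.c ≫ g = D₂.i := (Category.assoc _ _ _).symm.trans hgi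
  haveI : IsIso (chartMap D₀ U) := by
    haveI : Surjective (chartMap D₀ U) := ⟨fun z => (range_chartMap D₀ U).ge (by
      rw [← eq_vOf D₀ (U := U.1) (V := ⊤) rfl]
      trivial)⟩
    exact (isIso_iff_isOpenImmersion_and_epi_base _).2 ⟨inferInstance, (TopCat.epi_iff_surjective _).2
      (chartMap D₀ U).surjective⟩
  rw [← cancel_epi (chartMap D₀ U)]
  rw [← Category.assoc, chartMap_hom (ξ := D₁) (ξ' := D₀) (c := L₁.c) L₁.isPb.w rfl U, Category.assoc,
    chartMap_hom (ξ := D₂) (ξ' := D₁) (c := g) hg hgi U, hgθ,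
    chartMap_hom (ξ := D₂) (ξ' := D₀) (c := L₂.c) L₂.isPb.w rfl U, ← Category.assoc, ← Spec.map_comp]
  exact congrArg (fun h => Spec.map h ≫ chartMap D₂ U) (CommRingCat.hom_ext (RingHom.ext hθ))

include hμ in
theorem exists_glue_step {V W : X.Opens} (hVW : IsAffineOpen (V ⊓ W)) [Smooth ((V ⊓ W).ι ≫ x)]
    (L₁ : Lift ξ.f (specMap μ) (vOf ξ V)) (L₂ : Lift ξ.f (specMap μ) (vOf ξ W)) :
    Nonempty (Lift ξ.f (specMap μ) (vOf ξ (V ⊔ W))) := by
  haveI : IsClosedImmersion (specMap μ) := IsClosedImmersion.spec_of_surjective _ hμ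
  haveI := surjective_specMap μ
  rw [vOf_sup]
  exact exists_glue L₁ L₂ (same_of_smooth ξ hμ hVW (vOf_inf ξ V W).symm _ _)

include hμ in
theorem exists_lift_top [IsNoetherian X] (hdim : topologicalKrullDim X ≤ 1) (hlci : CInt.IsCIMorphism x)
    {U₀ : X.Opens} (hd : Dense (U₀ : Set X)) [Smooth (U₀.ι ≫ x)] :
    Nonempty (Lift ξ.f (specMap μ) (vOf ξ ⊤)) := by
  classical
  obtain ⟨hfin, hcl⟩ := Groth.L22.PicGlue.finite_compl hdim U₀ fun η hη => mem_of_dense hd hη
  have hN : ∀ z : X, ∃ W : X.Opens, IsAffineOpen W ∧ z ∈ W ∧ ∀ y ∈ W, y ∉ U₀ → y = z := by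
    intro z
    have hB : IsClosed (⋃ y ∈ ((U₀ : Set X)ᶜ \ {z}), ({y} : Set X)) :=
      (hfin.subset Set.sdiff_subset).isClosed_biUnion fun y hy => hcl y hy.1
    obtain ⟨W, hW, hzW, hWB⟩ := TopologicalSpace.Opens.isBasis_iff_nbhd.1 X.isBasis_affineOpens
      (U := ⟨_, hB.isOpen_compl⟩) (x := z) fun h => by
        obtain ⟨y, hy, rfl⟩ := Set.mem_iUnion₂.1 h
        exact hy.2 rfl
    refine ⟨W, hW, hzW, fun y hy hyU => ?_⟩
    by_contra hne
    exact hWB hy (Set.mem_iUnion₂.2 ⟨y, ⟨hyU, hne⟩, rfl⟩)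
  choose W hW hzW hWu using hN
  obtain ⟨t, ht⟩ := IsCompact.elim_finite_subcover isCompact_univ (fun z => (W z : Set X))
    (fun z => (W z).2) (fun z _ => Set.mem_iUnion.2 ⟨z, hzW z⟩)
  have hci : ∀ V : X.Opens, CInt.IsCIMorphism (V.ι ≫ x) := fun V =>
    Groth.Agent.S2846.result V.ι x (Groth.L07.SyntMor.isCIMorphism_of_smooth V.ι) hlci
  have key : ∀ s : Finset X, Nonempty (Lift ξ.f (specMap μ) (vOf ξ (s.sup W))) := by
    intro s
    induction s using Finset.induction_on with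
    | empty => exact exists_lift_affine ξ hμ (by rw [Finset.sup_empty]; exact isAffineOpen_bot X) (hci _)
    | insert z s hz ih =>
      rw [Finset.sup_insert]
      obtain ⟨L₂⟩ := ih
      obtain ⟨L₁⟩ := exists_lift_affine ξ hμ (hW z) (hci _)
      have hle : W z ⊓ s.sup W ≤ U₀ := fun y hy => by
        by_contra hyU
        obtain rfl := hWu z y hy.1 hyU
        have hy2 : y ∈ s.sup W := hy.2
        rw [Finset.sup_eq_iSup] at hy2
        obtain ⟨z', hz'⟩ := Opens.mem_iSup.1 hy2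
        obtain ⟨hz's, hz'W⟩ := Opens.mem_iSup.1 hz'
        exact hz ((hWu z' y hz'W hyU) ▸ hz's)
      haveI : Smooth ((W z ⊓ s.sup W).ι ≫ x) := by
        rw [← Scheme.homOfLE_ι X hle, Category.assoc]
        infer_instance
      have haff : IsAffineOpen (W z ⊓ s.sup W) := by
        haveI : IsAffine (W z).toScheme := hW z
        haveI : IsNoetherian (W z).toScheme := {}
        have h := isAffineOpen_of_dim_one (X := (W z).toScheme)
          (((W z).ι.isOpenEmbedding.isInducing.topologicalKrullDim_le).trans hdim) ((W z).ι ⁻¹ᵁ s.sup W)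
        have h' := h.image_of_isOpenImmersion (W z).ι
        rwa [Scheme.Hom.image_preimage_eq_opensRange_inf, Scheme.Opens.opensRange_ι] at h'
      exact exists_glue_step ξ hμ haff L₁ L₂
  have htop : t.sup W = ⊤ := top_le_iff.1 fun y _ => by
    obtain ⟨z, hzt, hy⟩ := Set.mem_iUnion₂.1 (ht (Set.mem_univ y))
    exact Finset.le_sup (f := W) hzt hy
  exact htop ▸ key t

include hμ in
theorem surjective_map_curve [IsNoetherian X] (hdim : topologicalKrullDim X ≤ 1) (hlci : CInt.IsCIMorphism x)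
    {U₀ : X.Opens} (hd : Dense (U₀ : Set X)) [Smooth (U₀.ι ≫ x)] :
    ∃ D : DefSch X x B, (defFunctor X x).map μ D.cl = ξ.cl := by
  obtain ⟨L⟩ := exists_lift_top ξ hμ hdim hlci hd
  rw [vOf_top] at L
  let c : ξ.total ⟶ L.T := ξ.total.topIso.inv ≫ L.c
  have hpb : IsPullback c ξ.f L.f (specMap μ) :=
    L.isPb.of_iso ξ.total.topIso (Iso.refl _) (Iso.refl _) (Iso.refl _) (by simp [c]) (by simp) (by simp) (by simp)
  let D : DefSch X x B :=
    { total := L.T, f := L.f, flat := L.flat, i := ξ.i ≫ c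
      isPullback := by
        have := ξ.isPullback.paste_horiz hpb
        rwa [specRes_comp] at this }
  exact ⟨D, (Groth.L14.DefLift.map_cl_iff μ D ξ).2 ⟨c, hpb.w, rfl⟩⟩

end Groth.L14.Unob
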