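import Mathlib.AlgebraicGeometry.Morphisms.ClosedImmersion
import Mathlib.AlgebraicGeometry.Morphisms.Flat
import Mathlib.AlgebraicGeometry.Gluing
import Mathlib.AlgebraicGeometry.Restrict

/-! # Lifts of open pieces along a nilpotent thickening of the base, and their gluing -/

set_option autoImplicit false
set_option linter.style.haveILetI false
set_option linter.unusedSectionVars false
set_option backward.isDefEq.respectTransparency.types false
set_option backward.isDefEq.respectTransparency false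

universe u

open CategoryTheory CategoryTheory.Limits AlgebraicGeometry TopologicalSpace

noncomputable section

namespace Groth.L14.Unob

variable {Y S₀ S : Scheme.{u}} (fY : Y ⟶ S₀) (s : S₀ ⟶ S)

/-- A flat lift of an open piece. -/
structure Lift (O : Y.Opens) where
  /-- the total space -/
  T : Scheme.{u}
  /-- the structure map -/
  f : T ⟶ S
  flat : Flat f
  /-- the inclusion of the given piece -/
  c : O.toScheme ⟶ T
  isPb : IsPullback c (O.ι ≫ fY) f s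

variable {fY s} [IsClosedImmersion s] [Surjective s]

namespace Lift

variable {O : Y.Opens} (L : Lift fY s O)

theorem isClosedImmersion : IsClosedImmersion L.c :=
  MorphismProperty.of_isPullback (P := @IsClosedImmersion.{u}) L.isPb.flip inferInstance

theorem surjective : Function.Surjective L.c :=
  (MorphismProperty.of_isPullback (P := @Surjective.{u}) L.isPb.flip inferInstance).surj

theorem injective : Function.Injective L.c := by
  haveI := L.isClosedImmersion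
  exact L.c.isEmbedding.injective

/-- The open of the lift over an open of the piece. -/
def openOver (O' : Y.Opens) : L.T.Opens :=
  ⟨L.c '' ((O.ι ⁻¹ᵁ O' : O.toScheme.Opens) : Set O.toScheme), by
    haveI := L.isClosedImmersion
    exact ((L.c.isEmbedding).toHomeomorphOfSurjective L.surjective).isOpenMap _ (O.ι ⁻¹ᵁ O').2⟩

theorem preimage_openOver (O' : Y.Opens) : L.c ⁻¹ᵁ L.openOver O' = O.ι ⁻¹ᵁ O' := by
  ext y
  exact L.injective.mem_set_image

theorem mem_openOver {O' : Y.Opens} {y : O.toScheme} : L.c y ∈ L.openOver O' ↔ O.ι y ∈ O' :=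
  L.injective.mem_set_image

/-- The inclusion of a smaller piece into the corresponding open. -/
def cR {O' : Y.Opens} (h : O' ≤ O) : O'.toScheme ⟶ (L.openOver O').toScheme :=
  IsOpenImmersion.lift (L.openOver O').ι (Y.homOfLE h ≫ L.c) (by
    rintro _ ⟨y, rfl⟩
    rw [Scheme.Opens.range_ι, SetLike.mem_coe, Scheme.Hom.comp_apply, L.mem_openOver, ← Scheme.Hom.comp_apply,
      Scheme.homOfLE_ι]
    exact y.2)

theorem cR_ι {O' : Y.Opens} (h : O' ≤ O) : L.cR h ≫ (L.openOver O').ι = Y.homOfLE h ≫ L.c :=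
  IsOpenImmersion.lift_fac _ _ _

theorem isPullback_cR {O' : Y.Opens} (h : O' ≤ O) :
    IsPullback (L.cR h) (Y.homOfLE h) (L.openOver O').ι L.c := by
  refine IsOpenImmersion.isPullback _ _ _ _ (L.cR_ι h).symm ?_
  rw [Scheme.Opens.opensRange_ι, Scheme.opensRange_homOfLE, preimage_openOver]

/-- Restriction of a lift. -/
def restrict {O' : Y.Opens} (h : O' ≤ O) : Lift fY s O' where
  T := (L.openOver O').toScheme
  f := (L.openOver O').ι ≫ L.f
  flat := by
    haveI := L.flat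
    infer_instance
  c := L.cR h
  isPb := by
    have := (L.isPullback_cR h).paste_vert L.isPb
    rwa [← Category.assoc, Scheme.homOfLE_ι] at this

end Lift

/-- Isomorphic lifts. -/
def Same {O : Y.Opens} (L₁ L₂ : Lift fY s O) : Prop :=
  ∃ φ : L₁.T ≅ L₂.T, φ.hom ≫ L₂.f = L₁.f ∧ L₁.c ≫ φ.hom = L₂.c

/-- Gluing two schemes along a common open. -/
theorem exists_glueTwo {V T₁ T₂ : Scheme.{u}} (a₁ : V ⟶ T₁) (a₂ : V ⟶ T₂) [IsOpenImmersion a₁] [IsOpenImmersion a₂]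
    {Z : Scheme.{u}} (f₁ : T₁ ⟶ Z) (f₂ : T₂ ⟶ Z) (hf : a₁ ≫ f₁ = a₂ ≫ f₂) :
    ∃ (T : Scheme.{u}) (i₁ : T₁ ⟶ T) (i₂ : T₂ ⟶ T) (f : T ⟶ Z), IsOpenImmersion i₁ ∧ IsOpenImmersion i₂ ∧
      a₁ ≫ i₁ = a₂ ≫ i₂ ∧ i₁ ≫ f = f₁ ∧ i₂ ≫ f = f₂ ∧ (∀ t, t ∈ Set.range i₁ ∨ t ∈ Set.range i₂) ∧
      ∀ x y, i₁ x = i₂ y → ∃ v, a₁ v = x ∧ a₂ v = y := by
  haveI hspan : ∀ {i j : WalkingSpan} (g : i ⟶ j), IsOpenImmersion ((span a₁ a₂).map g) := by
    intro i j g
    cases g with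
    | id => rw [WidePushoutShape.hom_id, CategoryTheory.Functor.map_id]; infer_instance
    | init j =>
      cases j
      · exact (inferInstance : IsOpenImmersion a₁)
      · exact (inferInstance : IsOpenImmersion a₂)
  refine ⟨pushout a₁ a₂, pushout.inl _ _, pushout.inr _ _, pushout.desc f₁ f₂ hf,
    inferInstanceAs (IsOpenImmersion (colimit.ι (span a₁ a₂) _)),
    inferInstanceAs (IsOpenImmersion (colimit.ι (span a₁ a₂) _)), pushout.condition, pushout.inl_desc _ _ _,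
    pushout.inr_desc _ _ _, fun t => ?_, fun x y he => ?_⟩
  · obtain ⟨j, y, hy⟩ := Scheme.IsLocallyDirected.ι_jointly_surjective (span a₁ a₂) t
    match j, y, hy with
    | none, y, hy =>
      left
      refine ⟨a₁ y, ?_⟩
      rw [← Scheme.Hom.comp_apply]
      refine Eq.trans ?_ hy
      exact congrArg (fun g : _ ⟶ pushout a₁ a₂ => g y) (colimit.w (span a₁ a₂) WalkingSpan.Hom.fst)
    | some WalkingPair.left, y, hy => exact Or.inl ⟨y, hy⟩
    | some WalkingPair.right, y, hy => exact Or.inr ⟨y, hy⟩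
  · obtain ⟨k, fi, fj, r, hr₁, hr₂⟩ := (Scheme.IsLocallyDirected.ι_eq_ι_iff (span a₁ a₂)
      (i := WalkingSpan.left) (j := WalkingSpan.right)).1 he
    cases fi with
    | id => exact nomatch fj
    | init =>
      cases fj with
      | init => exact ⟨r, hr₁, hr₂⟩

theorem exists_glue_aux {O₁ O₂ : Y.Opens} (L₁ : Lift fY s O₁) (L₂ : Lift fY s O₂) {V : Scheme.{u}}
    (cV : (O₁ ⊓ O₂).toScheme ⟶ V) (hcV : Function.Surjective cV) (a₁ : V ⟶ L₁.T) (a₂ : V ⟶ L₂.T)
    [IsOpenImmersion a₁] [IsOpenImmersion a₂]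
    (h₁ : cV ≫ a₁ = Y.homOfLE inf_le_left ≫ L₁.c) (h₂ : cV ≫ a₂ = Y.homOfLE inf_le_right ≫ L₂.c)
    (hf : a₁ ≫ L₁.f = a₂ ≫ L₂.f) :
    Nonempty (Lift fY s (O₁ ⊔ O₂)) := by
  obtain ⟨T, i₁, i₂, f, hi₁, hi₂, hw₀, hf₁, hf₂, hjs, hcross⟩ := exists_glueTwo a₁ a₂ L₁.f L₂.f hf
  haveI := hi₁
  haveI := hi₂
  have hflat : Flat f := by
    refine IsZariskiLocalAtSource.of_iSup_eq_top (P := @Flat)
      (fun b : Bool => cond b i₁.opensRange i₂.opensRange) ?_ fun b => ?_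
    · refine top_le_iff.1 fun t _ => Opens.mem_iSup.2 ?_
      exact (hjs t).elim (fun h => ⟨true, h⟩) fun h => ⟨false, h⟩
    · cases b
      · show Flat (i₂.opensRange.ι ≫ f)
        rw [← Scheme.Hom.isoOpensRange_inv_comp, Category.assoc, hf₂]
        haveI := L₂.flat
        infer_instance
      · show Flat (i₁.opensRange.ι ≫ f)
        rw [← Scheme.Hom.isoOpensRange_inv_comp, Category.assoc, hf₁]
        haveI := L₁.flat
        infer_instance
  -- the inclusion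
  let O := O₁ ⊔ O₂
  let j₁ : O₁.toScheme ⟶ O.toScheme := Y.homOfLE le_sup_left
  let j₂ : O₂.toScheme ⟶ O.toScheme := Y.homOfLE le_sup_right
  let m : Bool → Y.Opens := fun b => cond b O₁ O₂
  have hagree : Y.homOfLE (inf_le_left : O₁ ⊓ O₂ ≤ O₁) ≫ L₁.c ≫ i₁ =
      Y.homOfLE (inf_le_right : O₁ ⊓ O₂ ≤ O₂) ≫ L₂.c ≫ i₂ := by
    rw [← Category.assoc, ← h₁, Category.assoc, hw₀, ← Category.assoc, h₂, Category.assoc]
  let 𝒰 : O.toScheme.OpenCover := Scheme.Cover.mkOfCovers (P := @IsOpenImmersion) (ULift.{u} Bool)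
    (fun b => (m b.down).toScheme)
    (fun b => Y.homOfLE (Bool.casesOn (motive := fun b => m b ≤ O) b.down le_sup_right le_sup_left))
    (fun y => by
      obtain h | h := y.2
      · exact ⟨⟨true⟩, ⟨y.1, h⟩, Subtype.ext (by simp [m])⟩
      · exact ⟨⟨false⟩, ⟨y.1, h⟩, Subtype.ext (by simp [m])⟩)
    fun b => inferInstance
  let F : ∀ b : ULift.{u} Bool, (m b.down).toScheme ⟶ T := fun b => match b with
    | ⟨true⟩ => L₁.c ≫ i₁
    | ⟨false⟩ => L₂.c ≫ i₂
  have key : ∀ {Z : Scheme.{u}} (v : Z ⟶ O₁.toScheme) (w : Z ⟶ O₂.toScheme), v ≫ j₁ = w ≫ j₂ →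
      v ≫ L₁.c ≫ i₁ = w ≫ L₂.c ≫ i₂ := by
    intro Z v w e
    have e' : v ≫ O₁.ι = w ≫ O₂.ι := by
      have := congrArg (· ≫ O.ι) e
      simpa [j₁, j₂] using this
    have hr : Set.range (v ≫ O₁.ι) ⊆ Set.range (O₁ ⊓ O₂).ι := by
      rintro _ ⟨z, rfl⟩
      rw [Scheme.Opens.range_ι]
      refine ⟨(v z).2, ?_⟩
      rw [e']
      exact (w z).2
    let l := IsOpenImmersion.lift (O₁ ⊓ O₂).ι (v ≫ O₁.ι) hr
    have hv : v = l ≫ Y.homOfLE inf_le_left := by
      rw [← cancel_mono O₁.ι, Category.assoc, Scheme.homOfLE_ι, IsOpenImmersion.lift_fac]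
    have hw : w = l ≫ Y.homOfLE inf_le_right := by
      rw [← cancel_mono O₂.ι, Category.assoc, Scheme.homOfLE_ι, IsOpenImmersion.lift_fac, e']
    rw [hv, hw, Category.assoc, Category.assoc, hagree]
  let c : O.toScheme ⟶ T := Scheme.Cover.glueMorphisms 𝒰 F (by
    rintro ⟨_ | _⟩ ⟨_ | _⟩
    · have e : pullback.fst (𝒰.f ⟨false⟩) (𝒰.f ⟨false⟩) = pullback.snd (𝒰.f ⟨false⟩) (𝒰.f ⟨false⟩) :=
        (cancel_mono (Y.homOfLE (le_sup_right : O₂ ≤ O))).mp pullback.condition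
      rw [e]
    · exact (key (pullback.snd _ _) (pullback.fst _ _) pullback.condition.symm).symm
    · exact key (pullback.fst _ _) (pullback.snd _ _) pullback.condition
    · have e : pullback.fst (𝒰.f ⟨true⟩) (𝒰.f ⟨true⟩) = pullback.snd (𝒰.f ⟨true⟩) (𝒰.f ⟨true⟩) :=
        (cancel_mono (Y.homOfLE (le_sup_left : O₁ ≤ O))).mp pullback.condition
      rw [e])
  have hc₁ : j₁ ≫ c = L₁.c ≫ i₁ := Scheme.Cover.ι_glueMorphisms 𝒰 F _ ⟨true⟩
  have hc₂ : j₂ ≫ c = L₂.c ≫ i₂ := Scheme.Cover.ι_glueMorphisms 𝒰 F _ ⟨false⟩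
  have hw : c ≫ f = (O.ι ≫ fY) ≫ s := by
    refine Scheme.Cover.hom_ext 𝒰 _ _ ?_
    rintro ⟨_ | _⟩
    · show j₂ ≫ c ≫ f = j₂ ≫ _
      rw [← Category.assoc, hc₂, Category.assoc, hf₂, L₂.isPb.w]
      simp [j₂]
    · show j₁ ≫ c ≫ f = j₁ ≫ _
      rw [← Category.assoc, hc₁, Category.assoc, hf₁, L₁.isPb.w]
      simp [j₁]
  -- preimages of the pieces
  have hpre : ∀ y : O.toScheme, (c y ∈ Set.range i₁ ↔ O.ι y ∈ O₁) ∧
      (c y ∈ Set.range i₂ ↔ O.ι y ∈ O₂) := by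
    intro y
    have hcross₁ : ∀ (z : O₁.toScheme) (t : L₂.T), i₁ (L₁.c z) = i₂ t → O₁.ι z ∈ O₂ := by
      intro z t he
      obtain ⟨v, hv, -⟩ := hcross _ _ he
      obtain ⟨w, rfl⟩ := hcV v
      rw [← Scheme.Hom.comp_apply, h₁, Scheme.Hom.comp_apply] at hv
      rw [← L₁.injective hv, ← Scheme.Hom.comp_apply, Scheme.homOfLE_ι]
      exact w.2.2
    have hcross₂ : ∀ (z : O₂.toScheme) (t : L₁.T), i₂ (L₂.c z) = i₁ t → O₂.ι z ∈ O₁ := by
      intro z t he
      obtain ⟨v, -, hv⟩ := hcross _ _ he.symm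
      obtain ⟨w, rfl⟩ := hcV v
      rw [← Scheme.Hom.comp_apply, h₂, Scheme.Hom.comp_apply] at hv
      rw [← L₂.injective hv, ← Scheme.Hom.comp_apply, Scheme.homOfLE_ι]
      exact w.2.1
    have h1 : ∀ (hy : O.ι y ∈ O₁), c y = i₁ (L₁.c ⟨O.ι y, hy⟩) := fun hy => by
      have : j₁ ⟨O.ι y, hy⟩ = y := Subtype.ext (by simp [j₁])
      conv_lhs => rw [← this, ← Scheme.Hom.comp_apply, hc₁, Scheme.Hom.comp_apply]
    have h2 : ∀ (hy : O.ι y ∈ O₂), c y = i₂ (L₂.c ⟨O.ι y, hy⟩) := fun hy => by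
      have : j₂ ⟨O.ι y, hy⟩ = y := Subtype.ext (by simp [j₂])
      conv_lhs => rw [← this, ← Scheme.Hom.comp_apply, hc₂, Scheme.Hom.comp_apply]
    obtain hy | hy := y.2
    · refine ⟨⟨fun _ => hy, fun _ => ⟨_, (h1 hy).symm⟩⟩, ⟨?_, fun hy' => ⟨_, (h2 hy').symm⟩⟩⟩
      rintro ⟨t, ht⟩
      exact hcross₁ ⟨O.ι y, hy⟩ t ((h1 hy).symm.trans ht.symm)
    · refine ⟨⟨?_, fun hy' => ⟨_, (h1 hy').symm⟩⟩, ⟨fun _ => hy, fun _ => ⟨_, (h2 hy).symm⟩⟩⟩
      rintro ⟨t, ht⟩
      exact hcross₂ ⟨O.ι y, hy⟩ t ((h2 hy).symm.trans ht.symm)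
  let l : O.toScheme ⟶ pullback f s := pullback.lift c (O.ι ≫ fY) hw
  have hpiece : ∀ {O' : Y.Opens} (L : Lift fY s O') (j : O'.toScheme ⟶ O.toScheme) (i : L.T ⟶ T) [IsOpenImmersion i]
      [IsOpenImmersion j], j ≫ O.ι = O'.ι → j ≫ c = L.c ≫ i → i ≫ f = L.f →
      (∀ y, c y ∈ Set.range i ↔ O.ι y ∈ O') → IsIso (l ∣_ (pullback.fst f s ⁻¹ᵁ i.opensRange)) := by
    intro O' L j i _ _ hj hcj hif hiff
    let V := pullback.fst f s ⁻¹ᵁ i.opensRange
    have hpb₁ : IsPullback L.c j i c := by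
      refine IsOpenImmersion.isPullback _ _ _ _ hcj ?_
      ext y
      refine (hiff y).trans ?_
      constructor
      · intro hy
        refine ⟨⟨O.ι y, hy⟩, O.ι.isOpenEmbedding.injective ?_⟩
        rw [← Scheme.Hom.comp_apply, hj]
        rfl
      · rintro ⟨z, rfl⟩
        rw [← Scheme.Hom.comp_apply, hj]
        exact z.2
    let σ : O'.toScheme ⟶ pullback f s := j ≫ l
    have hσf : σ ≫ pullback.fst f s = L.c ≫ i := by
      rw [Category.assoc, pullback.lift_fst, hcj]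
    have hσ : IsPullback σ L.c (pullback.fst f s) i := by
      refine IsPullback.of_right ?_ hσf (IsPullback.of_hasPullback f s).flip
      rw [Category.assoc, pullback.lift_snd, ← Category.assoc j, hj, hif]
      exact L.isPb.flip
    have hσ' : IsPullback j (𝟙 _) l σ := by
      refine IsPullback.of_bot ?_ (by rw [Category.id_comp]) hσ
      rw [Category.id_comp, pullback.lift_fst]
      exact hpb₁.flip
    have hiso : IsIso (pullback.snd l σ) := by
      rw [← hσ'.isoPullback_inv_snd]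
      infer_instance
    haveI : IsOpenImmersion σ := MorphismProperty.of_isPullback (P := @IsOpenImmersion.{u}) hσ.flip inferInstance
    have hrange : σ.opensRange = V := by
      apply Opens.ext
      show Set.range σ = pullback.fst f s ⁻¹' Set.range i
      rw [← hσ.isoPullback_hom_fst, Scheme.Hom.comp_base, TopCat.coe_comp,
        (ConcreteCategory.bijective_of_isIso hσ.isoPullback.hom.base).2.range_comp]
      exact IsOpenImmersion.range_pullbackFst _ _
    rw [show pullback.fst f s ⁻¹ᵁ i.opensRange = σ.opensRange from hrange.symm]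
    exact (MorphismProperty.isomorphisms Scheme).arrow_iso_iff (morphismRestrictOpensRange l σ) |>.2
      (show IsIso (pullback.snd l σ) from hiso)
  haveI : IsIso l := by
    show MorphismProperty.isomorphisms Scheme l
    refine (IsZariskiLocalAtTarget.iff_of_iSup_eq_top (P := MorphismProperty.isomorphisms Scheme)
      (fun b : Bool => pullback.fst f s ⁻¹ᵁ (cond b i₁.opensRange i₂.opensRange)) ?_).2 ?_
    · refine top_le_iff.1 fun t _ => Opens.mem_iSup.2 ?_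
      exact (hjs (pullback.fst f s t)).elim (fun h => ⟨true, h⟩) fun h => ⟨false, h⟩
    · rintro (_ | _)
      · exact hpiece L₂ j₂ i₂ (Scheme.homOfLE_ι _ _) hc₂ (hf₂) fun y => (hpre y).2
      · exact hpiece L₁ j₁ i₁ (Scheme.homOfLE_ι _ _) hc₁ (hf₁) fun y => (hpre y).1
  exact ⟨⟨T, f, hflat, c, IsPullback.of_iso_pullback ⟨hw⟩ (asIso l) (pullback.lift_fst _ _ _) (pullback.lift_snd _ _ _)⟩⟩

theorem exists_glue {O₁ O₂ : Y.Opens} (L₁ : Lift fY s O₁) (L₂ : Lift fY s O₂)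
    (h : Same (L₁.restrict (inf_le_left : O₁ ⊓ O₂ ≤ O₁)) (L₂.restrict (inf_le_right : O₁ ⊓ O₂ ≤ O₂))) :
    Nonempty (Lift fY s (O₁ ⊔ O₂)) := by
  obtain ⟨φ, hφf, hφc⟩ := h
  have hc : L₁.cR (inf_le_left : O₁ ⊓ O₂ ≤ O₁) ≫ φ.hom = L₂.cR (inf_le_right : O₁ ⊓ O₂ ≤ O₂) := hφc
  exact exists_glue_aux L₁ L₂ (L₁.cR inf_le_left) (L₁.restrict inf_le_left).surjective
    (L₁.openOver (O₁ ⊓ O₂)).ι (φ.hom ≫ (L₂.openOver (O₁ ⊓ O₂)).ι) (L₁.cR_ι _)
    (by rw [← Category.assoc, hc, L₂.cR_ι]) (hφf.symm.trans (Category.assoc _ _ _).symm)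

end Groth.L14.Unob
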